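import Cfsg.Agent.Lib.OmStem.Basic

/-!
# The commuting lifts of root elements (module B)

Paper proof. `cl_lev_up`: choose `m ∈ {k,l}` with `m ≠ i`, flip `{m}`; both elements lie in the image of one
section `lamA` as images of commuting elements of `SL_n` (`Kz k l t = Kz l k (-t)` normalizes `m = l`).
`cl_up_up`: flip `{j,l}` (after normalizing with `Kz` antisymmetry; same root: flip `{j}`).

`special_pair`. Take `d = j`, and `k,l` with `i,k,l,d` distinct (`4 ≤ n`). For `x = (α,β,δ)` let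
`xM x = T_id(α) T_kd(β) T_ld(δ)` (so `e_d ↦ e_d + αe_i + βe_k + δe_l`; additive in `x`), `lam` the section of `A = ∅`,
`lam'` the section of `A = {d}`, `P x = lam (xM x)`, `Y x = lam' (xM x)`; then `π (Y x) = upG (Kz i d α + Kz k d β + Kz l d δ)`.
`D x x' = ⁅P x, Y x'⁆` lifts `upG` of an alternating matrix on `{i,k,l}`, a product of `upG (Kz p q c)`, `p,q ∈ {i,k,l}`.
So by `cl_lev_up` and `cl_up_up` it commutes with all `P z`, `Y z`, hence `D` is biadditive with commuting values.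
`D x (λ•x)` lies in `π.ker`, central. For `g ∈ SL_n` among `T_pq(c)`, `p,q ∈ {i,k,l}`: `lam g` conjugates `P x` to `P (g x)`,
and a lift of `Y x'` to a lift of `Y (g x')` (`lev_up`), so `ψ x := D x (λ•x)` satisfies `ψ (g x) = ψ x`. Elementary operations
connect the seven vectors `(α,0,0), (α,α,0), (0,α,0), (0,α,α), (0,0,α), (α,0,α), (α,α,α)`, so `ψ = γ` on them.
A quadratic map satisfies `ψ(x+y+z) ψ x ψ y ψ z = ψ(x+y) ψ(x+z) ψ(y+z)`, so `γ⁴ = γ³`, `γ = 1`.
So `⁅lam T_id(α), lam' T_id(λα)⁆ = 1`, which is the claim (`s = α`, `t = λα`; `s = 0` is trivial).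

`FlipSec.flipAll`: use `flipG_mul` (section of `univ ∆ A`). `cl_lev_low`, `special_low`: apply `cl_lev_up`, `special_pair`
to `H.flipAll`, using `flip_univ_lev`, `flip_univ_up` (`levG (T_ij s)` is conjugate to `levG (T_ji (-s))`, `lowG S` is conjugate to `upG S`).
-/

set_option linter.unusedSimpArgs false
set_option autoImplicit false

namespace Cfsg.Agent.Lib.OmStem

open Matrix Cfsg Subgroup Cfsg.Agent.Lib.PresOm Cfsg.Agent.Lib.PresSp.M2 Cfsg.Agent.Lib.PresSp.Mono
  Cfsg.Agent.Lib.PresSLn.TwoGen Cfsg.Agent.Lib.PresSp.Abs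
open scoped commutatorElement

section algebra

variable {Γ : Type*} [Group Γ]

lemma comm_mul_left' {a b c : Γ} (h : Commute a ⁅b, c⁆) : ⁅a * b, c⁆ = ⁅b, c⁆ * ⁅a, c⁆ := by
  have e : ⁅a * b, c⁆ = a * ⁅b, c⁆ * a⁻¹ * ⁅a, c⁆ := by
    simp only [commutatorElement_def]
    group
  rw [e, h.eq]
  group

lemma comm_mul_right' {a b c : Γ} (h : Commute b ⁅a, c⁆) : ⁅a, b * c⁆ = ⁅a, b⁆ * ⁅a, c⁆ := by
  have e : ⁅a, b * c⁆ = ⁅a, b⁆ * (b * ⁅a, c⁆ * b⁻¹) := by
    simp only [commutatorElement_def]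
    group
  rw [e, h.eq]
  group

/-- A relation in a commutative group. -/
lemma aux_comm {A : Type*} [CommGroup A] (a11 a12 a13 a21 a22 a23 a31 a32 a33 g : A)
    (h11 : a11 = g) (h22 : a22 = g) (h33 : a33 = g)
    (h12 : (a21 * a22) * (a11 * a12) = g) (h13 : (a31 * a33) * (a11 * a13) = g) (h23 : (a32 * a33) * (a22 * a23) = g)
    (h : (a31 * a32 * a33) * ((a21 * a22 * a23) * (a11 * a12 * a13)) = g) : g = 1 := by
  rw [h11, h22] at h12
  rw [h11, h33] at h13
  rw [h22, h33] at h23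
  rw [h11, h22, h33] at h
  have key : ∀ x : A, g * x * g = g → x = g⁻¹ := by
    intro x hx
    have h' := congrArg (fun y => g⁻¹ * y * g⁻¹) hx
    simpa [mul_assoc] using h'
  have e12 : a12 * a21 = g⁻¹ := key _ (Eq.trans (by ac_rfl) h12)
  have e13 : a13 * a31 = g⁻¹ := key _ (Eq.trans (by ac_rfl) h13)
  have e23 : a23 * a32 = g⁻¹ := key _ (Eq.trans (by ac_rfl) h23)
  have e : g * g * g * (a12 * a21) * (a13 * a31) * (a23 * a32) = g := Eq.trans (by ac_rfl) h
  rw [e12, e13, e23] at e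
  rw [← e]
  group

/-- The key computation: a quadratic map which is constant on the nonzero vectors of a
three-dimensional `𝔽₂`-space is trivial. -/
theorem quad_trivial {T1 T2 T3 U1 U2 U3 g : Γ}
    (hT : ∀ x ∈ ({T1, T2, T3} : Set Γ), ∀ y ∈ ({U1, U2, U3} : Set Γ),
      ∀ z ∈ ({T1, T2, T3, U1, U2, U3} : Set Γ), Commute ⁅x, y⁆ z)
    (h11 : ⁅T1, U1⁆ = g) (h22 : ⁅T2, U2⁆ = g) (h33 : ⁅T3, U3⁆ = g)
    (h12 : ⁅T1 * T2, U1 * U2⁆ = g) (h13 : ⁅T1 * T3, U1 * U3⁆ = g) (h23 : ⁅T2 * T3, U2 * U3⁆ = g)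
    (h123 : ⁅T1 * T2 * T3, U1 * U2 * U3⁆ = g) : g = 1 := by
  have mT : ∀ {x}, x ∈ ({T1, T2, T3} : Set Γ) → x ∈ ({T1, T2, T3, U1, U2, U3} : Set Γ) := by
    rintro x (rfl | rfl | rfl) <;> simp
  have mU : ∀ {x}, x ∈ ({U1, U2, U3} : Set Γ) → x ∈ ({T1, T2, T3, U1, U2, U3} : Set Γ) := by
    rintro x (rfl | rfl | rfl) <;> simp
  -- the commutators commute
  let R : Set Γ := Set.image2 (fun x y => ⁅x, y⁆) ({T1, T2, T3} : Set Γ) ({U1, U2, U3} : Set Γ)
  have hcomm : ∀ x ∈ R, ∀ y ∈ R, x * y = y * x := by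
    rintro _ ⟨x, hx, y, hy, rfl⟩ _ ⟨x', hx', y', hy', rfl⟩
    have h1 := hT x' hx' y' hy' x (mT hx)
    have h2 := hT x' hx' y' hy' y (mU hy)
    have : Commute ⁅x', y'⁆ ⁅x, y⁆ := by
      rw [commutatorElement_def x y]
      exact ((h1.mul_right h2).mul_right h1.inv_right).mul_right h2.inv_right
    exact this.symm.eq
  letI : CommGroup (closure R) := closureCommGroupOfComm hcomm
  have mem : ∀ {x y}, x ∈ ({T1, T2, T3} : Set Γ) → y ∈ ({U1, U2, U3} : Set Γ) → ⁅x, y⁆ ∈ closure R :=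
    fun hx hy => subset_closure ⟨_, hx, _, hy, rfl⟩
  have m1 : T1 ∈ ({T1, T2, T3} : Set Γ) := by simp
  have m2 : T2 ∈ ({T1, T2, T3} : Set Γ) := by simp
  have m3 : T3 ∈ ({T1, T2, T3} : Set Γ) := by simp
  have n1 : U1 ∈ ({U1, U2, U3} : Set Γ) := by simp
  have n2 : U2 ∈ ({U1, U2, U3} : Set Γ) := by simp
  have n3 : U3 ∈ ({U1, U2, U3} : Set Γ) := by simp
  -- expansions
  have e2 : ∀ {x y y'}, x ∈ ({T1, T2, T3} : Set Γ) → y ∈ ({U1, U2, U3} : Set Γ) → y' ∈ ({U1, U2, U3} : Set Γ) →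
      ⁅x, y * y'⁆ = ⁅x, y⁆ * ⁅x, y'⁆ := fun hx hy hy' =>
    comm_mul_right' (hT _ hx _ hy' _ (mU hy)).symm
  have e3 : ∀ {x}, x ∈ ({T1, T2, T3} : Set Γ) → ⁅x, U1 * U2 * U3⁆ = ⁅x, U1⁆ * ⁅x, U2⁆ * ⁅x, U3⁆ := by
    intro x hx
    have h1 := hT x hx _ n3 _ (mU n1)
    have h2 := hT x hx _ n3 _ (mU n2)
    rw [comm_mul_right' (h1.symm.mul_left h2.symm), e2 hx n1 n2]
  have f2 : ∀ {x x' y y'}, x ∈ ({T1, T2, T3} : Set Γ) → x' ∈ ({T1, T2, T3} : Set Γ) → y ∈ ({U1, U2, U3} : Set Γ) → y' ∈ ({U1, U2, U3} : Set Γ) →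
      ⁅x * x', y * y'⁆ = (⁅x', y⁆ * ⁅x', y'⁆) * (⁅x, y⁆ * ⁅x, y'⁆) := by
    intro x x' y y' hx hx' hy hy'
    have h1 := hT x' hx' y hy x (mT hx)
    have h2 := hT x' hx' y' hy' x (mT hx)
    rw [comm_mul_left' (by rw [e2 hx' hy hy']; exact (h1.mul_left h2).symm), e2 hx' hy hy', e2 hx hy hy']
  have f3 : ⁅T1 * T2 * T3, U1 * U2 * U3⁆ = (⁅T3, U1⁆ * ⁅T3, U2⁆ * ⁅T3, U3⁆) * ((⁅T2, U1⁆ * ⁅T2, U2⁆ * ⁅T2, U3⁆) * (⁅T1, U1⁆ * ⁅T1, U2⁆ * ⁅T1, U3⁆)) := by
    have c1 : Commute (T1 * T2) ⁅T3, U1 * U2 * U3⁆ := by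
      rw [e3 m3]
      have a : ∀ {z}, z ∈ ({T1, T2, T3, U1, U2, U3} : Set Γ) → Commute z (⁅T3, U1⁆ * ⁅T3, U2⁆ * ⁅T3, U3⁆) := fun hz =>
        (((hT _ m3 _ n1 _ hz).mul_left (hT _ m3 _ n2 _ hz)).mul_left (hT _ m3 _ n3 _ hz)).symm
      exact (a (mT m1)).mul_left (a (mT m2))
    have c2 : Commute T1 ⁅T2, U1 * U2 * U3⁆ := by
      rw [e3 m2]
      exact (((hT _ m2 _ n1 _ (mT m1)).mul_left (hT _ m2 _ n2 _ (mT m1))).mul_left (hT _ m2 _ n3 _ (mT m1))).symm
    rw [comm_mul_left' c1, comm_mul_left' c2, e3 m1, e3 m2, e3 m3]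
  have hg : g ∈ closure R := h11 ▸ mem m1 n1
  have := aux_comm (A := closure R) ⟨_, mem m1 n1⟩ ⟨_, mem m1 n2⟩ ⟨_, mem m1 n3⟩ ⟨_, mem m2 n1⟩ ⟨_, mem m2 n2⟩ ⟨_, mem m2 n3⟩
    ⟨_, mem m3 n1⟩ ⟨_, mem m3 n2⟩ ⟨_, mem m3 n3⟩ ⟨g, hg⟩ (Subtype.ext h11) (Subtype.ext h22) (Subtype.ext h33)
    (Subtype.ext ((f2 m1 m2 n1 n2).symm.trans h12)) (Subtype.ext ((f2 m1 m3 n1 n3).symm.trans h13))
    (Subtype.ext ((f2 m2 m3 n2 n3).symm.trans h23)) (Subtype.ext (f3.symm.trans h123))
  exact congrArg Subtype.val this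

end algebra

section sec

variable {n : ℕ} {F : Type*} [Field F] {Γ : Type*} [Group Γ]
variable {π : Γ →* GeneralLinearGroup (Fin n ⊕ Fin n) F}

lemma cl_sec (H : FlipSec π) (A : Finset (Fin n)) {x y : SpecialLinearGroup (Fin n) F} (h : Commute x y) :
    CL π (flipG A * levG x * (flipG A)⁻¹) (flipG A * levG y * (flipG A)⁻¹) := by
  obtain ⟨lam, hlam⟩ := H.sec A
  have := CL.of_commute H.central (h.map lam)
  rwa [hlam, hlam] at this

theorem cl_lev_up (H : FlipSec π) {i j k l : Fin n} (hij : i ≠ j) (hkl : k ≠ l) (hjk : j ≠ k) (hjl : j ≠ l) (s t : F) :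
    CL π (levG (TT hij s)) (upG (Kz k l t)) := by
  by_cases hil : i = l
  · subst hil
    rw [Kz_symm]
    have h1 := cl_sec H {k} (T_comm_row hij hkl.symm s (-t))
    rwa [flip_out hij s (by simpa using hkl.symm) (by simpa using hjk),
      flip_up hkl.symm (-t) (by simpa using hkl.symm) (by simp)] at h1
  · have h1 := cl_sec H {l} (T_comm_disj hij hkl hjk hil s t)
    rwa [flip_out hij s (by simpa using hil) (by simpa using hjl),
      flip_up hkl t (by simpa using hkl) (by simp)] at h1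

theorem cl_up_up (H : FlipSec π) {i j k l : Fin n} (hij : i ≠ j) (hkl : k ≠ l) (s t : F) :
    CL π (upG (Kz i j s)) (upG (Kz k l t)) := by
  by_cases hil : i = l
  · subst hil
    rw [Kz_symm i k t]
    by_cases hjk : j = k
    · subst hjk
      have h1 := cl_sec H {j} (T_comm_col hij hij s (-t))
      rwa [flip_up hij s (by simpa using hij) (by simp), flip_up hij (-t) (by simpa using hij) (by simp)] at h1
    · have h1 := cl_sec H {j, k} (T_comm_row hij hkl.symm s (-t))
      rwa [flip_up hij s (by simpa using ⟨hij, hkl.symm⟩) (by simp),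
        flip_up hkl.symm (-t) (by simpa using ⟨hij, hkl.symm⟩) (by simp)] at h1
  · by_cases hjk : j = k
    · subst hjk
      rw [Kz_symm j i s]
      have h1 := cl_sec H {i, l} (T_comm_row hij.symm hkl (-s) t)
      rwa [flip_up hij.symm (-s) (by simpa using ⟨hij.symm, hkl⟩) (by simp),
        flip_up hkl t (by simpa using ⟨hij.symm, hkl⟩) (by simp)] at h1
    · by_cases hjl : j = l
      · subst hjl
        rcases eq_or_ne i k with rfl | hik
        · have h1 := cl_sec H {j} (T_comm_col hij hij s t)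
          rwa [flip_up hij s (by simpa using hij) (by simp), flip_up hij t (by simpa using hij) (by simp)] at h1
        · have h1 := cl_sec H {j} (T_comm_col hij hkl s t)
          rwa [flip_up hij s (by simpa using hij) (by simp), flip_up hkl t (by simpa using hkl) (by simp)] at h1
      · have h1 := cl_sec H {j, l} (T_comm_disj hij hkl hjk hil s t)
        rwa [flip_up hij s (by simpa using ⟨hij, hil⟩) (by simp),
          flip_up hkl t (by simpa using ⟨fun e => hjk e.symm, hkl⟩) (by simp)] at h1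

/-- Commutators only depend on the images. -/
lemma comm_congr_right {G : Type*} [Group G] {π : Γ →* G} (hc : π.ker ≤ center Γ) {u v v' : Γ} (h : π v = π v') :
    ⁅u, v⁆ = ⁅u, v'⁆ := by
  have h1 : v⁻¹ * v' ∈ π.ker := by
    rw [MonoidHom.mem_ker, map_mul, map_inv, h, inv_mul_cancel]
  have h2 := mem_center_iff.1 (hc h1)
  obtain ⟨c, hc'⟩ : ∃ c, c = v⁻¹ * v' := ⟨_, rfl⟩
  rw [← hc'] at h2
  have e : v' = v * c := by rw [hc']; group
  rw [e, commutatorElement_def, commutatorElement_def]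
  have e2 : u * (v * c) * u⁻¹ * (v * c)⁻¹ = u * v * (c * u⁻¹) * c⁻¹ * v⁻¹ := by group
  rw [e2, ← h2 u⁻¹]
  group

/-- Four distinct indices. -/
structure Dst (p q r d : Fin n) : Prop where
  pq : p ≠ q
  pr : p ≠ r
  qr : q ≠ r
  pd : p ≠ d
  qd : q ≠ d
  rd : r ≠ d

lemma Dst.sw12 {p q r d : Fin n} (D : Dst p q r d) : Dst q p r d := ⟨D.pq.symm, D.qr, D.pr, D.qd, D.pd, D.rd⟩

lemma Dst.sw23 {p q r d : Fin n} (D : Dst p q r d) : Dst p r q d := ⟨D.pr, D.pq, D.qr.symm, D.pd, D.rd, D.qd⟩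

section XX

variable {p q r d : Fin n} (D : Dst p q r d)

/-- The transvection with the vector `a e_p + b e_q + c e_r`. -/
noncomputable def XX (a b c : F) : SpecialLinearGroup (Fin n) F := TT D.pd a * TT D.qd b * TT D.rd c

/-- The matrix of the upper unipotent element. -/
def SS (p q r d : Fin n) (a b c : F) : Matrix (Fin n) (Fin n) F := Kz p d a + Kz q d b + Kz r d c

include D in
lemma XX_coe (a b c : F) : (XX D a b c).1 = 1 + single p d a + single q d b + single r d c := by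
  simp only [XX, coeM, coeT, mul_add, add_mul, mul_one, one_mul,
    single_mul_single_of_ne _ _ _ _ D.pd.symm, single_mul_single_of_ne _ _ _ _ D.qd.symm,
    single_mul_single_of_ne _ _ _ _ D.rd.symm, add_zero, zero_add, zero_mul, mul_zero]

lemma XX_sw12 (a b c : F) : XX D.sw12 b a c = XX D a b c := by
  apply Subtype.ext
  rw [XX_coe, XX_coe]
  abel

lemma XX_sw23 (a b c : F) : XX D.sw23 a c b = XX D a b c := by
  apply Subtype.ext
  rw [XX_coe, XX_coe]
  abel

lemma flip_XX (a b c : F) : flipG {d} * levG (XX D a b c) * (flipG {d})⁻¹ = upG (SS p q r d a b c) := by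
  have e : ∀ x y z w : GeneralLinearGroup (Fin n ⊕ Fin n) F, w * (x * y * z) * w⁻¹ =
      (w * x * w⁻¹) * (w * y * w⁻¹) * (w * z * w⁻¹) := by
    intro x y z w
    group
  rw [XX, map_mul, map_mul, e, flip_up D.pd a (by simpa using D.pd) (by simp),
    flip_up D.qd b (by simpa using D.qd) (by simp), flip_up D.rd c (by simpa using D.rd) (by simp),
    SS, upG_add, upG_add]

lemma XX_conj (s a b c : F) : TT D.pq.symm s * XX D a b c * (TT D.pq.symm s)⁻¹ = XX D a (b + s * a) c := by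
  rw [mul_inv_eq_iff_eq_mul]
  apply Subtype.ext
  rw [coeM, coeM, XX_coe, XX_coe, coeT]
  simp only [mul_add, add_mul, mul_one, one_mul, single_mul_single_same,
    single_mul_single_of_ne _ _ _ _ D.pq, single_mul_single_of_ne _ _ _ _ D.pq.symm,
    single_mul_single_of_ne _ _ _ _ D.pd.symm, single_mul_single_of_ne _ _ _ _ D.qd.symm,
    single_mul_single_of_ne _ _ _ _ D.pr, single_mul_single_of_ne _ _ _ _ D.pr.symm,
    single_mul_single_of_ne _ _ _ _ D.qr, single_mul_single_of_ne _ _ _ _ D.qr.symm,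
    single_mul_single_of_ne _ _ _ _ D.rd.symm, single_add]
  simp
  abel

lemma SS_conj (s a b c : F) : (TT D.pq.symm s).1 * SS p q r d a b c * (TT D.pq.symm s).1ᵀ = SS p q r d a (b + s * a) c := by
  rw [coeT, transpose_add, transpose_one, transpose_single]
  simp only [SS, Kz, mul_add, add_mul, mul_sub, sub_mul, mul_one, one_mul, single_mul_single_same,
    single_mul_single_of_ne _ _ _ _ D.pq, single_mul_single_of_ne _ _ _ _ D.pq.symm,
    single_mul_single_of_ne _ _ _ _ D.pd, single_mul_single_of_ne _ _ _ _ D.qd,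
    single_mul_single_of_ne _ _ _ _ D.pd.symm, single_mul_single_of_ne _ _ _ _ D.qd.symm,
    single_mul_single_of_ne _ _ _ _ D.pr, single_mul_single_of_ne _ _ _ _ D.pr.symm,
    single_mul_single_of_ne _ _ _ _ D.qr, single_mul_single_of_ne _ _ _ _ D.qr.symm,
    single_mul_single_of_ne _ _ _ _ D.rd.symm, single_mul_single_of_ne _ _ _ _ D.rd, single_add]
  simp
  rw [mul_comm a s]
  abel

lemma XX_comm (l a b c : F) : (XX D a b c).1 * SS p q r d (l * a) (l * b) (l * c) * (XX D a b c).1ᵀ =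
    SS p q r d (l * a) (l * b) (l * c) := by
  rw [XX_coe, transpose_add, transpose_add, transpose_add, transpose_one, transpose_single, transpose_single, transpose_single]
  simp only [SS, Kz, mul_add, add_mul, mul_sub, sub_mul, mul_one, one_mul, single_mul_single_same,
    single_mul_single_of_ne _ _ _ _ D.pq, single_mul_single_of_ne _ _ _ _ D.pq.symm,
    single_mul_single_of_ne _ _ _ _ D.pd, single_mul_single_of_ne _ _ _ _ D.qd,
    single_mul_single_of_ne _ _ _ _ D.pd.symm, single_mul_single_of_ne _ _ _ _ D.qd.symm,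
    single_mul_single_of_ne _ _ _ _ D.pr, single_mul_single_of_ne _ _ _ _ D.pr.symm,
    single_mul_single_of_ne _ _ _ _ D.qr, single_mul_single_of_ne _ _ _ _ D.qr.symm,
    single_mul_single_of_ne _ _ _ _ D.rd.symm, single_mul_single_of_ne _ _ _ _ D.rd]
  simp only [zero_sub, sub_zero, zero_add, add_zero, sub_self]
  have e : ∀ x y : F, x * (l * y) = l * y * x := fun x y => by ring
  simp only [e, mul_comm _ l, mul_assoc, mul_comm a b, mul_comm a c, mul_comm b c, mul_left_comm, zero_mul, mul_zero]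
  abel

end XX

/-- The commutator of a root element with an upper root element. -/
lemma T_Kz {h h' d : Fin n} (hh : h ≠ d) (hh' : h' ≠ d) (a b : F) :
    (TT hh a).1 * Kz h' d b * (TT hh a).1ᵀ = Kz h' d b + Kz h' h (a * b) := by
  rw [coeT, transpose_add, transpose_one, transpose_single]
  simp only [Kz, mul_add, add_mul, mul_sub, sub_mul, mul_one, one_mul, single_mul_single_same,
    single_mul_single_of_ne _ _ _ _ hh'.symm, single_mul_single_of_ne _ _ _ _ hh']
  simp
  rw [mul_comm a b]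
  abel

section psi

variable {d : Fin n} (H : FlipSec π) (lam lam' : SpecialLinearGroup (Fin n) F →* Γ) (hlam : ∀ l, π (lam l) = levG l)
  (hlam' : ∀ l, π (lam' l) = flipG {d} * levG l * (flipG {d})⁻¹)

/-- The quadratic map. -/
noncomputable def psi {p q r : Fin n} (D : Dst p q r d) (l a b c : F) : Γ :=
  ⁅lam (XX D a b c), lam' (XX D (l * a) (l * b) (l * c))⁆

variable {p q r : Fin n} (D : Dst p q r d)

include hlam hlam' in
lemma psi_ker (l a b c : F) : π (psi lam lam' D l a b c) = 1 := by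
  rw [psi, map_commutatorElement, hlam, hlam', flip_XX, commutatorElement_eq_one_iff_commute]
  have h := lev_up (XX D a b c) (SS p q r d (l * a) (l * b) (l * c))
  rw [XX_comm, mul_inv_eq_iff_eq_mul] at h
  exact h

include H hlam hlam' in
lemma psi_center (l a b c : F) : psi lam lam' D l a b c ∈ center Γ :=
  H.central (psi_ker lam lam' hlam hlam' D l a b c)

include H hlam hlam' in
lemma psi_step (l s a b c : F) : psi lam lam' D l a (b + s * a) c = psi lam lam' D l a b c := by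
  set g := lam (TT D.pq.symm s) with hg
  have h1 : g * lam (XX D a b c) * g⁻¹ = lam (XX D a (b + s * a) c) := by
    rw [hg, ← map_inv, ← map_mul, ← map_mul, XX_conj D]
  have h2 : π (g * lam' (XX D (l * a) (l * b) (l * c)) * g⁻¹) = π (lam' (XX D (l * a) (l * (b + s * a)) (l * c))) := by
    rw [map_mul, map_mul, map_inv, hg, hlam, hlam', hlam', flip_XX D, flip_XX D, lev_up, SS_conj D]
    congr 2
    ring
  have h3 : g * psi lam lam' D l a b c * g⁻¹ = psi lam lam' D l a (b + s * a) c := by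
    rw [psi, psi, ← h1, ← comm_congr_right H.central h2]
    simp only [commutatorElement_def]
    group
  have hc := mem_center_iff.1 (psi_center H lam lam' hlam hlam' D l a b c) g
  rw [← h3, hc]
  group

lemma psi_sw12 (l a b c : F) : psi lam lam' D.sw12 l b a c = psi lam lam' D l a b c := by
  rw [psi, psi, XX_sw12 D, XX_sw12 D]

lemma psi_sw23 (l a b c : F) : psi lam lam' D.sw23 l a c b = psi lam lam' D l a b c := by
  rw [psi, psi, XX_sw23 D, XX_sw23 D]

include H hlam hlam' in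
lemma R_comm {h h' h'' : Fin n} (hh : h ≠ d) (hh' : h' ≠ d) (hh'' : h'' ≠ d) (a b e : F) :
    Commute ⁅lam (TT hh a), lam' (TT hh' b)⁆ (lam (TT hh'' e)) ∧
      Commute ⁅lam (TT hh a), lam' (TT hh' b)⁆ (lam' (TT hh'' e)) := by
  have h1 : π ⁅lam (TT hh a), lam' (TT hh' b)⁆ = upG (Kz h' h (a * b)) := by
    rw [map_commutatorElement, hlam, hlam', flip_up hh' b (by simpa using hh') (by simp), commutatorElement_def,
      lev_up, T_Kz hh hh', upG_inv, ← upG_add]
    congr 1
    abel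
  by_cases hhh : h = h'
  · subst hhh
    have h2 : π ⁅lam (TT hh a), lam' (TT hh' b)⁆ = 1 := by
      rw [h1, Kz, sub_self, upG_zero]
    have h3 := mem_center_iff.1 (H.central h2)
    exact ⟨(h3 _).symm, (h3 _).symm⟩
  · constructor
    · refine (cl_lev_up H hh'' (Ne.symm hhh) hh'.symm hh.symm e (a * b) _ _ (hlam _) h1).symm
    · refine (cl_up_up H hh'' (Ne.symm hhh) e (a * b) _ _ ?_ h1).symm
      rw [hlam', flip_up hh'' e (by simpa using hh'') (by simp)]

include H hlam hlam' in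
/-- The key lemma. -/
lemma psi_one (D : Dst p q r d) (l a : F) : psi lam lam' D l a 0 0 = 1 := by
  set g := psi lam lam' D l a 0 0 with hg
  have X1 : ∀ {p' q' r' : Fin n} (D' : Dst p' q' r' d) (x : F), XX D' x 0 0 = TT D'.pd x := by
    intro p' q' r' D' x
    simp [XX, TT_zero]
  have X2 : ∀ {p' q' r' : Fin n} (D' : Dst p' q' r' d) (x y : F), XX D' x y 0 = TT D'.pd x * TT D'.qd y := by
    intro p' q' r' D' x y
    simp [XX, TT_zero]
  have s1 : psi lam lam' D l a a 0 = g := by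
    have := psi_step H lam lam' hlam hlam' D l 1 a 0 0
    simpa using this
  -- second index
  have s2 : psi lam lam' D.sw12 l a 0 0 = g := by
    have h1 : psi lam lam' D.sw12 l a a 0 = g := (psi_sw12 lam lam' D l a a 0).trans s1
    have h2 := psi_step H lam lam' hlam hlam' D.sw12 l (-1) a a 0
    have e : a + -1 * a = 0 := by ring
    rw [e] at h2
    exact h2.trans h1
  have s2' : psi lam lam' D.sw12.sw23 l a 0 0 = g := (psi_sw23 lam lam' D.sw12 l a 0 0).trans s2
  have s3 : psi lam lam' D.sw12.sw23 l a a 0 = g := by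
    have := psi_step H lam lam' hlam hlam' D.sw12.sw23 l 1 a 0 0
    simp only [zero_add, one_mul] at this
    exact this.trans s2'
  -- third index
  have s4 : psi lam lam' D.sw12.sw23.sw12 l a 0 0 = g := by
    have h1 : psi lam lam' D.sw12.sw23.sw12 l a a 0 = g := (psi_sw12 lam lam' D.sw12.sw23 l a a 0).trans s3
    have h2 := psi_step H lam lam' hlam hlam' D.sw12.sw23.sw12 l (-1) a a 0
    have e : a + -1 * a = 0 := by ring
    rw [e] at h2
    exact h2.trans h1
  -- the pair (1,3)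
  have s5 : psi lam lam' D.sw23 l a a 0 = g := by
    have h1 : psi lam lam' D.sw23 l a 0 0 = g := psi_sw23 lam lam' D l a 0 0
    have := psi_step H lam lam' hlam hlam' D.sw23 l 1 a 0 0
    simp only [zero_add, one_mul] at this
    exact this.trans h1
  -- the triple
  have s6 : psi lam lam' D l a a a = g := by
    have h1 : psi lam lam' D l a 0 a = g := (psi_sw23 lam lam' D l a 0 a).symm.trans s5
    have h0 := psi_step H lam lam' hlam hlam' D l 1 a 0 a
    simp only [zero_add, one_mul] at h0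
    exact h0.trans h1
  refine quad_trivial (T1 := lam (TT D.pd a)) (T2 := lam (TT D.qd a)) (T3 := lam (TT D.rd a))
    (U1 := lam' (TT D.pd (l * a))) (U2 := lam' (TT D.qd (l * a))) (U3 := lam' (TT D.rd (l * a))) ?_ ?_ ?_ ?_ ?_ ?_ ?_ ?_
  · rintro x (rfl | rfl | rfl) y (rfl | rfl | rfl) z (rfl | rfl | rfl | rfl | rfl | rfl) <;>
      first
        | exact (R_comm H lam lam' hlam hlam' _ _ _ _ _ _).1
        | exact (R_comm H lam lam' hlam hlam' _ _ _ _ _ _).2
  · rw [hg, psi, mul_zero, X1, X1]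
  · rw [← s2, psi, mul_zero, X1, X1]
  · rw [← s4, psi, mul_zero, X1, X1]
  · rw [← s1, psi, mul_zero, X2, X2, map_mul, map_mul]
  · rw [← s5, psi, mul_zero, X2, X2, map_mul, map_mul]
  · rw [← s3, psi, mul_zero, X2, X2, map_mul, map_mul]
  · rw [← s6, psi, XX, XX, map_mul, map_mul, map_mul, map_mul]

end psi

/-- The special pair: `x_{ε_i - ε_j}(s)` and `x_{ε_i + ε_j}(t)` have commuting lifts. -/
theorem special_pair (H : FlipSec π) (hn : 4 ≤ n) {i j : Fin n} (hij : i ≠ j) (s t : F) :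
    CL π (levG (TT hij s)) (upG (Kz i j t)) := by
  obtain ⟨lam, hlam0⟩ := H.sec ∅
  have hlam : ∀ l, π (lam l) = levG l := by
    intro l
    rw [hlam0, flipG_empty]
    group
  obtain ⟨lam', hlam'⟩ := H.sec {j}
  obtain ⟨k, l, D⟩ : ∃ k l, Dst i k l j := by
    have hc : 1 < (({i, j} : Finset (Fin n))ᶜ).card := by
      rw [Finset.card_compl, Finset.card_pair hij, Fintype.card_fin]
      omega
    obtain ⟨k, hk, l, hl, hkl⟩ := Finset.one_lt_card.1 hc
    simp only [Finset.mem_compl, Finset.mem_insert, Finset.mem_singleton, not_or] at hk hl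
    exact ⟨k, l, ⟨Ne.symm hk.1, Ne.symm hl.1, hkl, hij, hk.2, hl.2⟩⟩
  by_cases hs : s = 0
  · subst hs
    intro a b ha hb
    have ha1 : π a = 1 := by
      rw [ha, TT_zero, map_one]
    exact (mem_center_iff.1 (H.central ha1) b).symm
  · have h1 := psi_one H lam lam' hlam hlam' D (t / s) s
    have e : t / s * s = t := div_mul_cancel₀ t hs
    simp only [psi, mul_zero, e] at h1
    have X1 : ∀ x : F, XX D x 0 0 = TT D.pd x := by
      intro x
      simp [XX, TT_zero]
    rw [X1, X1, commutatorElement_eq_one_iff_commute] at h1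
    have h2 := CL.of_commute H.central h1
    rwa [hlam, hlam', flip_up D.pd t (by simpa using D.pd) (by simp)] at h2

theorem FlipSec.flipAll (H : FlipSec π) :
    FlipSec ((MulAut.conj (flipG Finset.univ : GeneralLinearGroup (Fin n ⊕ Fin n) F)).toMonoidHom.comp π) := by
  refine ⟨?_, ?_⟩
  · intro x hx
    apply H.central
    rw [MonoidHom.mem_ker] at hx ⊢
    simpa using hx
  · intro A
    obtain ⟨lam, hlam⟩ := H.sec (symmDiff Finset.univ A)
    refine ⟨lam, fun l => ?_⟩
    have e : (flipG Finset.univ * flipG (symmDiff Finset.univ A) : GeneralLinearGroup (Fin n ⊕ Fin n) F) = flipG A := by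
      rw [flipG_mul, symmDiff_symmDiff_cancel_left]
    change flipG Finset.univ * π (lam l) * (flipG Finset.univ)⁻¹ = _
    rw [hlam, ← e]
    group

lemma cl_of_flipAll {x y : GeneralLinearGroup (Fin n ⊕ Fin n) F}
    (h : CL ((MulAut.conj (flipG Finset.univ : GeneralLinearGroup (Fin n ⊕ Fin n) F)).toMonoidHom.comp π)
      (flipG Finset.univ * x * (flipG Finset.univ)⁻¹) (flipG Finset.univ * y * (flipG Finset.univ)⁻¹)) : CL π x y := by
  intro a b ha hb
  refine h a b ?_ ?_
  · change flipG Finset.univ * π a * (flipG Finset.univ)⁻¹ = _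
    rw [ha]
  · change flipG Finset.univ * π b * (flipG Finset.univ)⁻¹ = _
    rw [hb]

lemma flip_univ_low (S : Matrix (Fin n) (Fin n) F) :
    flipG Finset.univ * lowG S * (flipG Finset.univ)⁻¹ = upG S := by
  rw [← flip_univ_up S]
  have e : (flipG Finset.univ * flipG Finset.univ : GeneralLinearGroup (Fin n ⊕ Fin n) F) = 1 := by
    rw [flipG_mul, symmDiff_self]
    exact flipG_empty
  rw [flipG_inv]
  calc _ = (flipG Finset.univ * flipG Finset.univ) * upG S * (flipG Finset.univ * flipG Finset.univ) := by group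
    _ = _ := by rw [e]; group

theorem cl_lev_low (H : FlipSec π) {i j k l : Fin n} (hij : i ≠ j) (hkl : k ≠ l) (hik : i ≠ k) (hil : i ≠ l) (s t : F) :
    CL π (levG (TT hij s)) (lowG (Kz k l t)) := by
  apply cl_of_flipAll
  rw [flip_univ_lev, flip_univ_low]
  exact cl_lev_up H.flipAll hij.symm hkl hik hil (-s) t

theorem special_low (H : FlipSec π) (hn : 4 ≤ n) {i j : Fin n} (hij : i ≠ j) (s t : F) :
    CL π (levG (TT hij s)) (lowG (Kz i j t)) := by
  apply cl_of_flipAll
  rw [flip_univ_lev, flip_univ_low]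
  have := special_pair H.flipAll hn hij.symm (-s) (-t)
  rwa [Kz_symm, neg_neg] at this

end sec

end Cfsg.Agent.Lib.OmStem
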