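import Cfsg.Agent.Lib.OmStem.Fock
import Cfsg.Agent.Lib.PresOm.Thm

/-!
# The spin group (module E1)

`ut_scalar`: `p.1 = 1`: `p.2` commutes with `rho v`; use `scalar_of_comm`.

`sq_of_neg`. Let `B` be from `exists_form`, `τ A = B⁻¹ Aᵀ B`. For `p ∈ Ut`: `A ρ(v) A⁻¹ = ρ(g v)`, transposing, `τ(A)⁻¹ ρ(v) τ(A) = ρ(g v)`, so
`N(p) = τ(A) A` commutes with all `ρ(v)`: a scalar, and `N` is multiplicative: `τ(A') τ(A) A A' = N(p) N(p')`. So `N = 1` on `⁅Ut, Ut⁆`.
For `p ∈ Us` over `-1`: `A ρ(v) = -ρ(v) A`, so `A * gam⁻¹` commutes with `ρ(v)` (`gam_rho`), `A = c • gam` (`scalar_of_comm`). `τ(gam) = (-1)^n gam` (`exists_form`), so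
`1 = N(p) = c² (-1)^n`, and `A * A = c² gam² = c² = (-1)^n`.
-/

set_option autoImplicit false

namespace Cfsg.Agent.Lib.OmStem

open Matrix Cfsg Subgroup Cfsg.Agent.Lib.PresOm Cfsg.Agent.Lib.PresSp.M2 Cfsg.Agent.Lib.PresSp.Mono
  Cfsg.Agent.Lib.PresSLn.TwoGen Cfsg.Agent.Lib.PresSp.Abs


section spin

variable (n : ℕ) (F : Type*) [Field F]

/-- The `Ω`-Clifford group: pairs `(g, A)` with `A ρ(v) A⁻¹ = ρ(g v)`. -/
def Ut : Subgroup (Omega F (quadFormPlus n F) × GeneralLinearGroup (Bt n) F) where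
  carrier := {p | ∀ v : Fin n ⊕ Fin n → F, (p.2 : MS n F) * rho v = rho ((iO p.1 : GeneralLinearGroup _ F).1 *ᵥ v) * (p.2 : MS n F)}
  one_mem' := by
    intro v
    simp
  mul_mem' := by
    rintro ⟨g, A⟩ ⟨g', A'⟩ hp hq v
    change ((A * A' : GeneralLinearGroup (Bt n) F) : MS n F) * rho v =
      rho ((iO (g * g') : GeneralLinearGroup _ F).1 *ᵥ v) * ((A * A' : GeneralLinearGroup (Bt n) F) : MS n F)
    have h1 := hq v
    have h2 := hp ((iO g' : GeneralLinearGroup _ F).1 *ᵥ v)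
    change (A' : MS n F) * rho v = rho ((iO g' : GeneralLinearGroup _ F).1 *ᵥ v) * (A' : MS n F) at h1
    change (A : MS n F) * rho ((iO g' : GeneralLinearGroup _ F).1 *ᵥ v) =
      rho ((iO g : GeneralLinearGroup _ F).1 *ᵥ ((iO g' : GeneralLinearGroup _ F).1 *ᵥ v)) * (A : MS n F) at h2
    rw [map_mul, Units.val_mul, Units.val_mul, ← mulVec_mulVec, mul_assoc, h1, ← mul_assoc, h2, mul_assoc]
  inv_mem' := by
    rintro ⟨g, A⟩ hp v
    change ((A⁻¹ : GeneralLinearGroup (Bt n) F) : MS n F) * rho v =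
      rho ((iO g⁻¹ : GeneralLinearGroup _ F).1 *ᵥ v) * ((A⁻¹ : GeneralLinearGroup (Bt n) F) : MS n F)
    have h2 := hp ((iO g⁻¹ : GeneralLinearGroup _ F).1 *ᵥ v)
    change (A : MS n F) * rho ((iO g⁻¹ : GeneralLinearGroup _ F).1 *ᵥ v) =
      rho ((iO g : GeneralLinearGroup _ F).1 *ᵥ ((iO g⁻¹ : GeneralLinearGroup _ F).1 *ᵥ v)) * (A : MS n F) at h2
    have e : (iO g : GeneralLinearGroup _ F).1 *ᵥ ((iO g⁻¹ : GeneralLinearGroup _ F).1 *ᵥ v) = v := by
      rw [mulVec_mulVec, ← Units.val_mul, ← map_mul, mul_inv_cancel, map_one, Units.val_one, one_mulVec]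
    rw [e] at h2
    have h3 : ((A⁻¹ : GeneralLinearGroup (Bt n) F) : MS n F) * (A : MS n F) = 1 := by
      rw [← Units.val_mul, inv_mul_cancel, Units.val_one]
    have h4 : (A : MS n F) * ((A⁻¹ : GeneralLinearGroup (Bt n) F) : MS n F) = 1 := by
      rw [← Units.val_mul, mul_inv_cancel, Units.val_one]
    calc ((A⁻¹ : GeneralLinearGroup (Bt n) F) : MS n F) * rho v
        = ((A⁻¹ : GeneralLinearGroup (Bt n) F) : MS n F) * (rho v * ((A : MS n F) * ((A⁻¹ : GeneralLinearGroup (Bt n) F) : MS n F))) := by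
          rw [h4, mul_one]
      _ = ((A⁻¹ : GeneralLinearGroup (Bt n) F) : MS n F) * ((A : MS n F) * rho ((iO g⁻¹ : GeneralLinearGroup _ F).1 *ᵥ v)) * ((A⁻¹ : GeneralLinearGroup (Bt n) F) : MS n F) := by
          rw [h2]
          simp only [mul_assoc]
      _ = _ := by
          rw [← mul_assoc (((A⁻¹ : GeneralLinearGroup (Bt n) F) : MS n F)), h3, one_mul]

/-- The spin group. -/
abbrev Us : Subgroup (Omega F (quadFormPlus n F) × GeneralLinearGroup (Bt n) F) := ⁅Ut n F, Ut n F⁆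

/-- The map to `Ω`. -/
def piU : Us n F →* Omega F (quadFormPlus n F) := (MonoidHom.fst _ _).comp (Us n F).subtype

variable {n F}

theorem ut_scalar {p : Omega F (quadFormPlus n F) × GeneralLinearGroup (Bt n) F} (hp : p ∈ Ut n F) (h1 : p.1 = 1) :
    ∃ c : Fˣ, (p.2 : MS n F) = (c : F) • (1 : MS n F) := by
  have hcomm : ∀ v, (p.2 : MS n F) * rho v = rho v * (p.2 : MS n F) := by
    intro v
    have h := hp v
    rw [h1, map_one, Units.val_one, one_mulVec] at h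
    exact h
  obtain ⟨c, hc⟩ := scalar_of_comm hcomm
  have hc0 : c ≠ 0 := by
    rintro rfl
    have h3 : ((p.2⁻¹ : GeneralLinearGroup (Bt n) F) : MS n F) * (p.2 : MS n F) = 1 := by
      rw [← Units.val_mul, inv_mul_cancel, Units.val_one]
    rw [hc, zero_smul, mul_zero] at h3
    exact zero_ne_one h3
  exact ⟨Units.mk0 c hc0, hc⟩

lemma rho_neg (v : Fin n ⊕ Fin n → F) : rho (-v) = -rho v := by
  have h := rho_smul (-1 : F) v
  simpa using h

lemma Us_le_Ut : Us n F ≤ Ut n F :=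
  Subgroup.commutator_le.2 fun _ h₁ _ h₂ =>
    mul_mem (mul_mem (mul_mem h₁ h₂) (inv_mem h₁)) (inv_mem h₂)

/-- Every element of `Ut` is a similitude of a form for which `rho` is self-adjoint. -/
lemma sim_of_ut {B : MS n F} (hB : IsUnit B) (hρ : ∀ v : Fin n ⊕ Fin n → F, (rho v)ᵀ * B = B * rho v)
    {p : Omega F (quadFormPlus n F) × GeneralLinearGroup (Bt n) F} (hp : p ∈ Ut n F) :
    ∃ c : F, (p.2 : MS n F)ᵀ * B * (p.2 : MS n F) = c • B := by
  obtain ⟨B', rfl⟩ := hB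
  have h1 : ∀ v, ((B'⁻¹ : (MS n F)ˣ) : MS n F) * ((p.2 : MS n F)ᵀ * (B' : MS n F) * (p.2 : MS n F)) * rho v =
      rho v * (((B'⁻¹ : (MS n F)ˣ) : MS n F) * ((p.2 : MS n F)ᵀ * (B' : MS n F) * (p.2 : MS n F))) := by
    intro v
    set w := (iO p.1 : GeneralLinearGroup _ F).1 *ᵥ v with hw
    have h2 : (p.2 : MS n F) * rho v = rho w * (p.2 : MS n F) := hp v
    have h3 : (rho v)ᵀ * (p.2 : MS n F)ᵀ = (p.2 : MS n F)ᵀ * (rho w)ᵀ := by
      rw [← transpose_mul, h2, transpose_mul]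
    have h4 : (rho v)ᵀ * ((p.2 : MS n F)ᵀ * (B' : MS n F) * (p.2 : MS n F)) =
        ((p.2 : MS n F)ᵀ * (B' : MS n F) * (p.2 : MS n F)) * rho v := by
      calc (rho v)ᵀ * ((p.2 : MS n F)ᵀ * (B' : MS n F) * (p.2 : MS n F))
          = ((rho v)ᵀ * (p.2 : MS n F)ᵀ) * (B' : MS n F) * (p.2 : MS n F) := by simp only [mul_assoc]
        _ = (p.2 : MS n F)ᵀ * ((rho w)ᵀ * (B' : MS n F)) * (p.2 : MS n F) := by
            rw [h3]; simp only [mul_assoc]
        _ = (p.2 : MS n F)ᵀ * (B' : MS n F) * (rho w * (p.2 : MS n F)) := by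
            rw [hρ w]; simp only [mul_assoc]
        _ = _ := by rw [← h2]; simp only [mul_assoc]
    have h5 : ((B'⁻¹ : (MS n F)ˣ) : MS n F) * (rho v)ᵀ = rho v * ((B'⁻¹ : (MS n F)ˣ) : MS n F) := by
      have h6 := hρ v
      calc ((B'⁻¹ : (MS n F)ˣ) : MS n F) * (rho v)ᵀ
          = ((B'⁻¹ : (MS n F)ˣ) : MS n F) * ((rho v)ᵀ * (B' : MS n F)) * ((B'⁻¹ : (MS n F)ˣ) : MS n F) := by
            simp only [mul_assoc, Units.mul_inv, mul_one]
        _ = _ := by
            rw [h6]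
            simp only [← mul_assoc, Units.inv_mul, one_mul]
    calc ((B'⁻¹ : (MS n F)ˣ) : MS n F) * ((p.2 : MS n F)ᵀ * (B' : MS n F) * (p.2 : MS n F)) * rho v
        = ((B'⁻¹ : (MS n F)ˣ) : MS n F) * (((p.2 : MS n F)ᵀ * (B' : MS n F) * (p.2 : MS n F)) * rho v) := by
          rw [mul_assoc]
      _ = ((B'⁻¹ : (MS n F)ˣ) : MS n F) * ((rho v)ᵀ * ((p.2 : MS n F)ᵀ * (B' : MS n F) * (p.2 : MS n F))) := by
          rw [h4]
      _ = _ := by rw [← mul_assoc, h5, mul_assoc]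
  obtain ⟨c, hc⟩ := scalar_of_comm h1
  refine ⟨c, ?_⟩
  calc (p.2 : MS n F)ᵀ * (B' : MS n F) * (p.2 : MS n F)
      = (B' : MS n F) * (((B'⁻¹ : (MS n F)ˣ) : MS n F) * ((p.2 : MS n F)ᵀ * (B' : MS n F) * (p.2 : MS n F))) := by
        rw [← mul_assoc, Units.mul_inv, one_mul]
    _ = _ := by rw [hc]; simp

lemma scale_unique {B : MS n F} (hB : IsUnit B) {c d : F} (h : c • B = d • B) : c = d := by
  obtain ⟨B', rfl⟩ := hB
  have h1 : c • (1 : MS n F) = d • (1 : MS n F) := by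
    have h2 := congrArg (fun X : MS n F => X * ((B'⁻¹ : (MS n F)ˣ) : MS n F)) h
    simpa [smul_mul_assoc] using h2
  have h3 := congrFun (congrFun h1 (fun _ => false)) (fun _ => false)
  simpa using h3

/-- Elements of `Us` are isometries of the form. -/
lemma iso_of_us {B : MS n F} (hB : IsUnit B) (hρ : ∀ v : Fin n ⊕ Fin n → F, (rho v)ᵀ * B = B * rho v)
    {p : Omega F (quadFormPlus n F) × GeneralLinearGroup (Bt n) F} (hp : p ∈ Us n F) :
    (p.2 : MS n F)ᵀ * B * (p.2 : MS n F) = B := by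
  let K : Subgroup (Omega F (quadFormPlus n F) × GeneralLinearGroup (Bt n) F) :=
    { carrier := {p | (p.2 : MS n F)ᵀ * B * (p.2 : MS n F) = B}
      one_mem' := by
        change ((1 : GeneralLinearGroup (Bt n) F) : MS n F)ᵀ * B * ((1 : GeneralLinearGroup (Bt n) F) : MS n F) = B
        simp
      mul_mem' := by
        rintro ⟨g, A⟩ ⟨g', A'⟩ h1 h2
        change (A : MS n F)ᵀ * B * (A : MS n F) = B at h1
        change (A' : MS n F)ᵀ * B * (A' : MS n F) = B at h2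
        change ((A * A' : GeneralLinearGroup (Bt n) F) : MS n F)ᵀ * B * ((A * A' : GeneralLinearGroup (Bt n) F) : MS n F) = B
        rw [Units.val_mul, transpose_mul]
        calc (A' : MS n F)ᵀ * (A : MS n F)ᵀ * B * ((A : MS n F) * (A' : MS n F))
            = (A' : MS n F)ᵀ * ((A : MS n F)ᵀ * B * (A : MS n F)) * (A' : MS n F) := by simp only [mul_assoc]
          _ = B := by rw [h1, h2]
      inv_mem' := by
        rintro ⟨g, A⟩ h1
        change (A : MS n F)ᵀ * B * (A : MS n F) = B at h1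
        change ((A⁻¹ : GeneralLinearGroup (Bt n) F) : MS n F)ᵀ * B * ((A⁻¹ : GeneralLinearGroup (Bt n) F) : MS n F) = B
        have h3 : ((A⁻¹ : GeneralLinearGroup (Bt n) F) : MS n F)ᵀ * (A : MS n F)ᵀ = 1 := by
          rw [← transpose_mul, ← Units.val_mul, mul_inv_cancel, Units.val_one, transpose_one]
        have h4 : (A : MS n F) * ((A⁻¹ : GeneralLinearGroup (Bt n) F) : MS n F) = 1 := by
          rw [← Units.val_mul, mul_inv_cancel, Units.val_one]
        calc ((A⁻¹ : GeneralLinearGroup (Bt n) F) : MS n F)ᵀ * B * ((A⁻¹ : GeneralLinearGroup (Bt n) F) : MS n F)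
            = ((A⁻¹ : GeneralLinearGroup (Bt n) F) : MS n F)ᵀ * ((A : MS n F)ᵀ * B * (A : MS n F)) * ((A⁻¹ : GeneralLinearGroup (Bt n) F) : MS n F) := by
              rw [h1]
          _ = (((A⁻¹ : GeneralLinearGroup (Bt n) F) : MS n F)ᵀ * (A : MS n F)ᵀ) * B * ((A : MS n F) * ((A⁻¹ : GeneralLinearGroup (Bt n) F) : MS n F)) := by
              simp only [mul_assoc]
          _ = B := by rw [h3, h4, one_mul, mul_one] }
  have hle : Us n F ≤ K := by
    refine Subgroup.commutator_le.2 ?_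
    rintro ⟨g, A⟩ h1 ⟨g', A'⟩ h2
    obtain ⟨c₁, hc₁⟩ := sim_of_ut hB hρ h1
    obtain ⟨c₂, hc₂⟩ := sim_of_ut hB hρ h2
    obtain ⟨d₁, hd₁⟩ := sim_of_ut hB hρ (inv_mem h1)
    obtain ⟨d₂, hd₂⟩ := sim_of_ut hB hρ (inv_mem h2)
    change (A : MS n F)ᵀ * B * (A : MS n F) = c₁ • B at hc₁
    change (A' : MS n F)ᵀ * B * (A' : MS n F) = c₂ • B at hc₂
    change ((A⁻¹ : GeneralLinearGroup (Bt n) F) : MS n F)ᵀ * B * ((A⁻¹ : GeneralLinearGroup (Bt n) F) : MS n F) = d₁ • B at hd₁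
    change ((A'⁻¹ : GeneralLinearGroup (Bt n) F) : MS n F)ᵀ * B * ((A'⁻¹ : GeneralLinearGroup (Bt n) F) : MS n F) = d₂ • B at hd₂
    have key : ∀ {A : GeneralLinearGroup (Bt n) F} {c d : F}, (A : MS n F)ᵀ * B * (A : MS n F) = c • B →
        ((A⁻¹ : GeneralLinearGroup (Bt n) F) : MS n F)ᵀ * B * ((A⁻¹ : GeneralLinearGroup (Bt n) F) : MS n F) = d • B → c * d = 1 := by
      intro A c d h h'
      have h3 : ((A⁻¹ : GeneralLinearGroup (Bt n) F) : MS n F)ᵀ * (A : MS n F)ᵀ = 1 := by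
        rw [← transpose_mul, ← Units.val_mul, mul_inv_cancel, Units.val_one, transpose_one]
      have h4 : (A : MS n F) * ((A⁻¹ : GeneralLinearGroup (Bt n) F) : MS n F) = 1 := by
        rw [← Units.val_mul, mul_inv_cancel, Units.val_one]
      have h5 : (1 : F) • B = (c * d) • B := by
        calc (1 : F) • B = (((A⁻¹ : GeneralLinearGroup (Bt n) F) : MS n F)ᵀ * (A : MS n F)ᵀ) * B * ((A : MS n F) * ((A⁻¹ : GeneralLinearGroup (Bt n) F) : MS n F)) := by
              rw [h3, h4]; simp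
          _ = ((A⁻¹ : GeneralLinearGroup (Bt n) F) : MS n F)ᵀ * ((A : MS n F)ᵀ * B * (A : MS n F)) * ((A⁻¹ : GeneralLinearGroup (Bt n) F) : MS n F) := by
              simp only [mul_assoc]
          _ = c • (((A⁻¹ : GeneralLinearGroup (Bt n) F) : MS n F)ᵀ * B * ((A⁻¹ : GeneralLinearGroup (Bt n) F) : MS n F)) := by
              rw [h]; simp [mul_smul_comm, smul_mul_assoc]
          _ = _ := by rw [h', smul_smul]
      exact (scale_unique hB h5).symm
    have k₁ := key hc₁ hd₁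
    have k₂ := key hc₂ hd₂
    change ((A * A' * A⁻¹ * A'⁻¹ : GeneralLinearGroup (Bt n) F) : MS n F)ᵀ * B * ((A * A' * A⁻¹ * A'⁻¹ : GeneralLinearGroup (Bt n) F) : MS n F) = B
    have mulS : ∀ {X Y : GeneralLinearGroup (Bt n) F} {a b : F}, (X : MS n F)ᵀ * B * (X : MS n F) = a • B →
        (Y : MS n F)ᵀ * B * (Y : MS n F) = b • B →
        ((X * Y : GeneralLinearGroup (Bt n) F) : MS n F)ᵀ * B * ((X * Y : GeneralLinearGroup (Bt n) F) : MS n F) = (a * b) • B := by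
      intro X Y a b hX hY
      rw [Units.val_mul, transpose_mul]
      calc (Y : MS n F)ᵀ * (X : MS n F)ᵀ * B * ((X : MS n F) * (Y : MS n F))
          = (Y : MS n F)ᵀ * ((X : MS n F)ᵀ * B * (X : MS n F)) * (Y : MS n F) := by simp only [mul_assoc]
        _ = a • ((Y : MS n F)ᵀ * B * (Y : MS n F)) := by
            rw [hX]; simp [mul_smul_comm, smul_mul_assoc]
        _ = _ := by rw [hY, smul_smul]
    have h9 := mulS (mulS (mulS hc₁ hc₂) hd₁) hd₂
    have e9 : c₁ * c₂ * d₁ * d₂ = 1 := by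
      calc c₁ * c₂ * d₁ * d₂ = (c₁ * d₁) * (c₂ * d₂) := by ring
        _ = 1 := by rw [k₁, k₂, one_mul]
    rw [e9, one_smul] at h9
    exact h9
  exact hle hp

/-- Elements of `Us` lying over `-1`. -/
theorem sq_of_neg {p : Omega F (quadFormPlus n F) × GeneralLinearGroup (Bt n) F} (hp : p ∈ Us n F)
    (h : (iO p.1 : GeneralLinearGroup _ F).1 = -1) : ((p.2 * p.2 : GeneralLinearGroup (Bt n) F) : MS n F) = ((-1 : F) ^ n) • (1 : MS n F) := by
  obtain ⟨B, hB, hρ, hgam⟩ := exists_form n F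
  have h0 := iso_of_us hB hρ hp
  have h1 : ∀ v, (p.2 : MS n F) * rho v = -(rho v * (p.2 : MS n F)) := by
    intro v
    have h2 := Us_le_Ut hp v
    rw [h, neg_mulVec, one_mulVec, rho_neg, neg_mul] at h2
    exact h2
  have h2 : ∀ v, ((p.2 : MS n F) * gam F) * rho v = rho v * ((p.2 : MS n F) * gam F) := by
    intro v
    rw [mul_assoc, gam_rho, mul_neg, ← mul_assoc, h1, neg_mul, neg_neg, mul_assoc]
  obtain ⟨c, hc⟩ := scalar_of_comm h2
  have h3 : (p.2 : MS n F) = c • gam F := by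
    calc (p.2 : MS n F) = ((p.2 : MS n F) * gam F) * gam F := by rw [mul_assoc, gam_sq, mul_one]
      _ = _ := by rw [hc]; simp
  rw [h3] at h0
  have h4 : (c * c * (-1) ^ n) • B = (1 : F) • B := by
    rw [one_smul]
    have h8 : (c • gam F)ᵀ * B * c • gam F = (c * c * (-1) ^ n) • B := by
      rw [transpose_smul, smul_mul_assoc, mul_smul_comm, smul_mul_assoc, hgam, smul_smul, smul_mul_assoc,
        mul_assoc, gam_sq, mul_one, smul_smul]
    rw [← h8, h0]
  have h5 := scale_unique hB h4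
  have h6 : (-1 : F) ^ n * (-1) ^ n = 1 := by
    rw [← mul_pow]; simp
  have h7 : c * c = (-1) ^ n := by
    calc c * c = c * c * ((-1) ^ n * (-1) ^ n) := by rw [h6, mul_one]
      _ = (c * c * (-1) ^ n) * (-1) ^ n := by ring
      _ = _ := by rw [h5, one_mul]
  rw [Units.val_mul, h3, smul_mul_assoc, mul_smul_comm, gam_sq, smul_smul, h7]

end spin

end Cfsg.Agent.Lib.OmStem
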